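import Cfsg.Agent.Lib.Chevalley.Data.E8
import Cfsg.Agent.Lib.Chevalley.Weyl

/-!
Certificates for the grading of `E₈` by the coefficient of the branch node and its reflected grading.
-/

set_option autoImplicit false
set_option maxRecDepth 20000

namespace CfsgLib.Chevalley.E8Cores

open Tbl

/-- The table of type E8. -/
abbrev E : Tbl := Data.E8.tbl

/-- The coefficient of the branch node. -/
def lev (r : ℕ) : ℤ := E.co r 3

/-- The image of a root under a word in the fundamental reflections. -/
def act (l : List ℕ) (r : ℕ) : ℕ := l.foldr (fun i s => E.refl i s) r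

theorem pw_val (hT : E.Valid) (l : List (Fin E.rank)) (s : Fin E.n) :
    ((E.pw hT l s : Fin E.n) : ℕ) = act (l.map Fin.val) s.val := by
  induction l with
  | nil => rfl
  | cons i l ih =>
    rw [pw_cons, Equiv.Perm.mul_apply, refP_apply, ih]
    rfl

/-- The coefficient of the branch node after reflecting in it, as a linear function. -/
def cRef (j : ℕ) : ℤ := if j = 3 then -1 else if j = 1 ∨ j = 2 ∨ j = 4 then 1 else 0

/-- The coefficient of the branch node, as a linear function. -/
def cLev (j : ℕ) : ℤ := if j = 3 then 1 else 0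

/-- The lowest root of each level. -/
def low (k : ℤ) : ℕ :=
  if k = 1 then 130 else if k = 2 then 152 else if k = 3 then 194 else if k = 4 then 214
  else if k = 5 then 224 else 235

def chkLinAt (r : ℕ) : Bool :=
  decide (lev (E.refl 3 r) = ((List.range 8).map fun j => cRef j * E.co r j).sum ∧
    lev r ≤ 6 ∧ -6 ≤ lev r)

def chkDropAt (r : ℕ) : Bool :=
  decide (2 ≤ lev r → lev r - 1 ≤ lev (E.refl 3 r))

def chkDescAt (r : ℕ) : Bool :=
  decide (1 ≤ lev r → r ≠ low (lev r) → ([0, 1, 2, 4, 5, 6, 7].any fun j =>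
    decide (lev (E.refl j r) = lev r ∧ E.ht (E.refl j r) < E.ht r)) = true)

/-- The longest word in the fundamental reflections other than the branch node. -/
def longWord : List ℕ := [1, 0, 2, 0, 4, 5, 4, 6, 5, 4, 7, 6, 5, 4]

def chkLongAt (r : ℕ) : Bool :=
  decide (120 ≤ r → (lev r = 0 → act longWord r < 120) ∧ (1 ≤ lev r → 1 ≤ lev (act longWord r)))

/-- For each node other than the branch node: a word and a witnessing root. -/
def moveData : ℕ → List ℕ × ℕ
  | 0 => ([2], 14)
  | 1 => ([], 7)
  | 2 => ([], 6)
  | 4 => ([], 10)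
  | 5 => ([4], 11)
  | 6 => ([4, 5], 12)
  | _ => ([4, 5, 6], 13)

def chkMoveAt (j r : ℕ) : Bool :=
  decide (120 ≤ r → lev (E.refl 3 (act (moveData j).1 r)) < 0 →
    (moveData j).2 ≠ E.neg (E.refl 3 (act (moveData j).1 r)) ∧
      ((moveData j).2 = E.refl 3 (act (moveData j).1 r) ∨
        E.chain (E.refl 3 (act (moveData j).1 r)) (moveData j).2 1 = none))

def chkDrop' (j : ℕ) : Bool :=
  decide ((moveData j).2 < 240 ∧ lev (E.refl 3 (act ((moveData j).1 ++ j :: (moveData j).1.reverse)
    (E.refl 3 (moveData j).2))) < lev (moveData j).2)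

theorem chkLin : allLt chkLinAt 240 = true := by decide +kernel
theorem chkDrop : allLt chkDropAt 240 = true := by decide +kernel
theorem chkDesc : allLt chkDescAt 240 = true := by decide +kernel
theorem chkLong : allLt chkLongAt 240 = true := by decide +kernel
theorem chkMove : ([0, 1, 2, 4, 5, 6, 7].all fun j => allLt (chkMoveAt j) 240 && chkDrop' j) = true := by
  decide +kernel

theorem chkLow : ([1, 2, 3, 4, 5, 6].all fun k : ℤ => decide (low k < 240 ∧ lev (low k) = k ∧
    (k = 1 → lev (E.refl 3 (low k)) = -1) ∧ (2 ≤ k → lev (E.refl 3 (low k)) < k))) = true := by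
  decide +kernel

theorem chkTop : decide (lev 239 = 6 ∧ lev (E.simple 3) = 1 ∧ E.simple 3 = 130 ∧
    E.refl 3 130 = E.neg 130) = true := by decide +kernel

end CfsgLib.Chevalley.E8Cores
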