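import Cfsg.Agent.Lib.Chevalley.E8Cores.Shift
import Cfsg.Agent.Lib.Chevalley.E8Cores.Checks
import Cfsg.Agent.Lib.Chevalley.Data.E8Comm

/-!
The levels of the unipotent radical of the branch node parabolic of `E₈(2)` and their irreducibility.
-/

set_option autoImplicit false

namespace CfsgLib.Chevalley.E8Cores

open Tbl Matrix

theorem hE : E.Valid := Data.E8.valid
theorem hEC : E.chkComm = true := Data.E8.chkComm

/-- The field with two elements. -/
abbrev F2 : Type := ZMod 2

instance : Fact (Nat.Prime 2) := ⟨Nat.prime_two⟩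

/-- The matrix group containing `E₈(2)`. -/
abbrev GE : Type := GL E.I F2

theorem rank_eq : E.rank = 8 := rfl
theorem n_eq : E.n = 240 := rfl
theorem half_eq : E.half = 120 := rfl

/-- The node. -/
def b3 : Fin E.rank := ⟨3, by rw [rank_eq]; norm_num⟩

/-- The reflection in the node, as an element of the group. -/
noncomputable def nb : GE := E.nU F2 (E.simple 3) 1

theorem mono_nb : E.Mono nb (E.refP hE b3) := mono_nU_simple hE b3

theorem dU_eq_one (χ : ℕ → F2ˣ) : (E.dU χ : GE) = 1 := by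
  have h : (E.dU (1 : ℕ → F2ˣ) : GE) = 1 := dU_one
  rw [← h]
  exact dU_congr fun s _ => Subsingleton.elim _ _

theorem nb_mul_self : nb * nb = 1 := by
  rw [nb, nU_sq hE (simple_lt hE (show 3 < E.rank from b3.2))]
  exact dU_eq_one _

theorem nb_inv : nb⁻¹ = nb := inv_eq_of_mul_eq_one_right nb_mul_self

/-- The reflected level. -/
def lev' (r : ℕ) : ℤ := lev (E.refl 3 r)

theorem lev_eq_lin (r : ℕ) : lev r = lin E cLev r := by
  rw [lin, Finset.sum_eq_single (⟨3, by rw [rank_eq]; norm_num⟩ : Fin E.rank)]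
  · simp [cLev, lev]
  · intro j _ hj
    rw [cLev, if_neg (fun e => hj (Fin.ext e)), zero_mul]
  · simp

theorem lev'_eq_lin {r : ℕ} (hr : r < E.n) : lev' r = lin E cRef r := by
  have h := allLt_iff.mp chkLin r hr
  simp only [chkLinAt, decide_eq_true_eq] at h
  rw [lev', h.1, lin, Fin.sum_univ_eq_sum_range (fun j => cRef j * E.co r j) E.rank, rank_eq]
  simp [Finset.sum_range_succ, List.range_succ, List.sum_append]
  ring

theorem lev_le_six {r : ℕ} (hr : r < E.n) : lev r ≤ 6 := by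
  have h := allLt_iff.mp chkLin r hr
  simp only [chkLinAt, decide_eq_true_eq] at h
  exact h.2.1

theorem lev_drop {r : ℕ} (hr : r < E.n) (h : 2 ≤ lev r) : lev r - 1 ≤ lev' r := by
  have e := allLt_iff.mp chkDrop r hr
  simp only [chkDropAt, decide_eq_true_eq] at e
  exact e h

theorem lev'_refl {r : ℕ} (hr : r < E.n) : lev' (E.refl 3 r) = lev r := by
  rw [lev', refl_refl hE (show 3 < E.rank from b3.2) hr]

/-- The root subgroup product of the roots of level at least `k`. -/
noncomputable def U (k : ℤ) : Subgroup GE := E.rootGen F2 (fun r => k ≤ lev r)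

/-- Its reflection. -/
noncomputable def U' (k : ℤ) : Subgroup GE := E.rootGen F2 (fun r => k ≤ lev' r)

theorem U_anti {k l : ℤ} (h : k ≤ l) : U l ≤ U k := rootGen_mono fun _ _ h' => le_trans h h'

theorem U_seven : U 7 = ⊥ :=
  eq_bot_iff.mpr (rootGen_le fun r hr h _ => by have := lev_le_six hr; omega)

theorem conj_U {k : ℤ} {x : GE} (hx : x ∈ U k) : nb * x * nb ∈ U' k := by
  have h := conj_mem_rootGen hE mono_nb (Q := fun r => k ≤ lev' r)
    (fun s hs => by rw [refP_apply]; exact (lev'_refl s.2).symm ▸ hs) hx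
  rwa [nb_inv] at h

theorem conj_U' {k : ℤ} {x : GE} (hx : x ∈ U' k) : nb * x * nb ∈ U k := by
  have h := conj_mem_rootGen hE mono_nb (Q := fun r => k ≤ lev r)
    (fun s hs => by rw [refP_apply]; exact hs) hx
  rwa [nb_inv] at h

theorem U_le_shift {k : ℤ} (hk : 0 ≤ k) : U k ≤ shiftSub F2 (gdeg E (lin E cLev)) k hk :=
  rootGen_le_shift hE cLev hk fun r _ h => by rwa [← lev_eq_lin]

theorem U'_le_shift {k : ℤ} (hk : 0 ≤ k) : U' k ≤ shiftSub F2 (gdeg E (lin E cRef)) k hk :=
  rootGen_le_shift hE cRef hk fun r hr h => by rwa [← lev'_eq_lin hr]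

theorem lev_neg {r : ℕ} (hr : r < E.n) : lev (E.neg r) = -lev r := co_neg hE hr (by rw [rank_eq]; norm_num)

theorem lev_commT {r s : ℕ} (hr : r < E.n) (hs : s < E.n) {c : ℕ × ℤ × ℕ × ℕ} (hc : c ∈ E.commT r s) :
    lev c.1 = c.2.2.1 * lev r + c.2.2.2 * lev s :=
  (commT_co hE hr hs c hc).2.2 3 (by rw [rank_eq]; norm_num)

theorem xU_normalizes {k : ℤ} (hk : 1 ≤ k) {r : ℕ} (hr : r < E.n) (h : 0 ≤ lev r) (t : F2) :
    E.xU F2 r t ∈ Subgroup.normalizer (U k : Set GE) := by
  refine xU_mem_normalizer hE hEC hr (fun s hs hsk hne => ⟨fun e => ?_, fun c hc => ?_⟩) t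
  · have := lev_neg hr
    rw [← e] at this
    omega
  · rw [lev_commT hr hs hc]
    have h1 : 0 ≤ (c.2.2.1 : ℤ) * lev r := mul_nonneg (by positivity) h
    have h2 : (1 : ℤ) ≤ c.2.2.2 := by exact_mod_cast (commT_co hE hr hs c hc).2.1
    nlinarith

/-- The coordinate of an element at a root. -/
def chi (a : Fin E.rank) {r : ℕ} (hr : r < E.n) (g : GE) : F2 :=
  (g : Matrix E.I E.I F2) (Sum.inl a) (Sum.inr ⟨E.neg r, neg_lt' hr⟩)

theorem gdeg_entry {r : ℕ} (hr : r < E.n) (a : Fin E.rank) :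
    gdeg E (lin E cLev) (Sum.inl a) - gdeg E (lin E cLev) (Sum.inr ⟨E.neg r, neg_lt' hr⟩) = lev r := by
  show (0 : ℤ) - lin E cLev (E.neg r) = lev r
  rw [← lev_eq_lin, lev_neg hr]; ring

theorem chi_mul {k : ℤ} (hk : 1 ≤ k) (a : Fin E.rank) {r : ℕ} (hr : r < E.n) (hlev : lev r = k)
    {g h : GE} (hg : g ∈ U k) (hh : h ∈ U k) : chi a hr (g * h) = chi a hr g + chi a hr h :=
  Shift.mul_entry hk (U_le_shift (by omega) hg).1 (U_le_shift (by omega) hh).1 (by simp)
    (by rw [gdeg_entry hr a]; omega)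

theorem chi_one (a : Fin E.rank) {r : ℕ} (hr : r < E.n) : chi a hr 1 = 0 := by simp [chi]

theorem chi_inv {k : ℤ} (hk : 1 ≤ k) (a : Fin E.rank) {r : ℕ} (hr : r < E.n) (hlev : lev r = k)
    {g : GE} (hg : g ∈ U k) : chi a hr g⁻¹ = -chi a hr g := by
  have h := chi_mul hk a hr hlev hg (inv_mem hg)
  rw [mul_inv_cancel, chi_one] at h
  linear_combination -h

theorem chi_eq_zero_of_next {k : ℤ} (hk : 1 ≤ k) (a : Fin E.rank) {r : ℕ} (hr : r < E.n)
    (hlev : lev r = k) {g : GE} (hg : g ∈ U (k + 1)) : chi a hr g = 0 := by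
  rw [chi, (U_le_shift (by omega) hg).1 _ _ (by rw [gdeg_entry hr a]; omega),
    Matrix.one_apply_ne (by simp)]

/-- A node at which the coroot is odd. -/
theorem exists_odd {r : ℕ} (hr : r < E.n) : ∃ a : Fin E.rank, (E.cv r a : F2) ≠ 0 := by
  obtain ⟨i, hi, j, hj, hij⟩ := cv_coprime hE hr
  by_contra hall
  push Not at hall
  have hbez := congrArg (fun z : ℤ => (z : F2)) (Int.gcd_eq_gcd_ab (E.cv r i) (E.cv r j))
  simp [hij, hall ⟨i, hi⟩, hall ⟨j, hj⟩] at hbez

/-- An element of level `k` whose coordinates vanish has higher level. -/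
theorem mem_next_of_chi {k : ℤ} (hk : 1 ≤ k) {g : GE} (hg : g ∈ U k)
    (h : ∀ r (hr : r < E.n), lev r = k → ∀ a, chi a hr g = 0) : g ∈ U (k + 1) := by
  suffices key : ∀ L : Finset ℕ, (∀ r ∈ L, r < E.n ∧ lev r = k) →
      ∀ g ∈ E.rootGen F2 (fun r => r ∈ L ∨ k + 1 ≤ lev r),
        (∀ r (hr : r < E.n), r ∈ L → ∀ a, chi a hr g = 0) → g ∈ U (k + 1) by
    refine key ((Finset.range E.n).filter fun r => lev r = k)
      (fun r hr => ⟨Finset.mem_range.mp (Finset.mem_filter.mp hr).1, (Finset.mem_filter.mp hr).2⟩) g ?_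
      (fun r hr hm a => h r hr (Finset.mem_filter.mp hm).2 a)
    refine rootGen_mono (fun r hr hkr => ?_) hg
    rcases eq_or_lt_of_le hkr with e | e
    · exact Or.inl (Finset.mem_filter.mpr ⟨Finset.mem_range.mpr hr, e.symm⟩)
    · exact Or.inr (by omega)
  intro L
  induction L using Finset.induction with
  | empty => exact fun _ g hg _ => rootGen_mono (fun r _ h => h.resolve_left (by simp)) hg
  | insert r₀ L hnot ih =>
    intro hL g hg hz
    obtain ⟨hr₀, hlev⟩ := hL r₀ (Finset.mem_insert_self _ _)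
    have hLk : ∀ s < E.n, (s ∈ L ∨ k + 1 ≤ lev s) → k ≤ lev s := by
      rintro s _ (hs | hs)
      · rw [(hL s (Finset.mem_insert_of_mem hs)).2]
      · omega
    have hn : E.rootGen F2 (fun s => s = r₀) ≤ Subgroup.normalizer
        (E.rootGen F2 (fun s => s ∈ L ∨ k + 1 ≤ lev s) : Set GE) := by
      refine rootGen_le fun s hs e t => ?_
      subst e
      refine xU_mem_normalizer hE hEC hs (fun v hv hv' hne => ⟨fun e => ?_, fun c hc => Or.inr ?_⟩) t
      · have := lev_neg hs
        rw [← e] at this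
        have := hLk v hv hv'
        omega
      · rw [lev_commT hs hv hc]
        have h1 : (1 : ℤ) ≤ c.2.2.1 := by exact_mod_cast (commT_co hE hs hv c hc).1
        have h2 : (1 : ℤ) ≤ c.2.2.2 := by exact_mod_cast (commT_co hE hs hv c hc).2.1
        have h3 := hLk v hv hv'
        nlinarith
    have hg' : g ∈ E.rootGen F2 (fun s => s = r₀) ⊔ E.rootGen F2 (fun s => s ∈ L ∨ k + 1 ≤ lev s) := by
      refine rootGen_le (fun s hs h' t => ?_) hg
      rcases h' with h' | h'
      · rcases Finset.mem_insert.mp h' with e | e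
        · exact Subgroup.mem_sup_left (xU_mem_rootGen (P := fun s => s = r₀) hs e t)
        · exact Subgroup.mem_sup_right
            (xU_mem_rootGen (P := fun s => s ∈ L ∨ k + 1 ≤ lev s) hs (Or.inl e) t)
      · exact Subgroup.mem_sup_right
          (xU_mem_rootGen (P := fun s => s ∈ L ∨ k + 1 ≤ lev s) hs (Or.inr h') t)
    rw [← SetLike.mem_coe, Subgroup.coe_mul_of_left_le_normalizer_right _ _ hn] at hg'
    obtain ⟨x, hx, y, hy, hxy⟩ := hg'
    rw [SetLike.mem_coe, rootGen_eq_singleton hE hr₀, mem_rootSubgroup_iff hE hr₀] at hx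
    obtain ⟨t, rfl⟩ := hx
    rw [SetLike.mem_coe] at hy
    simp only at hxy
    have hyU : y ∈ U k := rootGen_mono hLk hy
    have hxU : E.xU F2 r₀ t ∈ U k := xU_mem_rootGen (P := fun s => k ≤ lev s) hr₀ hlev.ge t
    obtain ⟨a, ha⟩ := exists_odd hr₀
    have hy0 : ∀ a, chi a hr₀ y = 0 := by
      intro a
      have key : chi a hr₀ y = 0 ∧ y ∈ U k := by
        clear hxy hyU
        induction hy using Subgroup.closure_induction with
        | mem z hz =>
          obtain ⟨s, hs, hP, u, rfl⟩ := hz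
          refine ⟨?_, xU_mem_rootGen (P := fun s => k ≤ lev s) hs (hLk s hs hP) u⟩
          refine xU_entry_ne hE hr₀ hs ?_ a u
          rintro rfl
          rcases hP with hP | hP
          · exact hnot hP
          · omega
        | one => exact ⟨chi_one a hr₀, one_mem _⟩
        | mul z w _ _ hz hw =>
          exact ⟨by rw [chi_mul hk a hr₀ hlev hz.2 hw.2, hz.1, hw.1, add_zero], mul_mem hz.2 hw.2⟩
        | inv z _ hz => exact ⟨by rw [chi_inv hk a hr₀ hlev hz.2, hz.1, neg_zero], inv_mem hz.2⟩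
      exact key.1
    have ht : t = 0 := by
      have h0 := hz r₀ hr₀ (Finset.mem_insert_self _ _) a
      rw [← hxy, chi_mul hk a hr₀ hlev hxU hyU, hy0 a, add_zero, chi, xU_entry hE hr₀] at h0
      exact (mul_eq_zero.mp h0).resolve_left ha
    subst ht
    rw [xU_zero hE hr₀, one_mul] at hxy
    subst hxy
    refine ih (fun s hs => hL s (Finset.mem_insert_of_mem hs)) y hy fun s hs hsL a => ?_
    have h0 := hz s hs (Finset.mem_insert_of_mem hsL) a
    exact h0

/-- Coordinates of conjugates under a monomial element preserving levels. -/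
theorem chi_conj {k : ℤ} (hk : 1 ≤ k) {m : GE} {π : Equiv.Perm (Fin E.n)} (hm : E.Mono m π)
    (hπ : ∀ s : Fin E.n, lev (π s).val = lev s.val) {r : Fin E.n} (hlev : lev r.val = k) {g : GE}
    (hg : g ∈ U k) {a a' : Fin E.rank} (ha : (E.cv r.val a : F2) ≠ 0) (ha' : (E.cv (π r).val a' : F2) ≠ 0) :
    chi a' (π r).2 (m * g * m⁻¹) = chi a r.2 g ∧ m * g * m⁻¹ ∈ U k := by
  have hlev' : lev (π r).val = k := by rw [hπ, hlev]
  have h1 : ∀ z : F2, z ≠ 0 → z = 1 := by decide
  induction hg using Subgroup.closure_induction with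
  | mem z hz =>
    obtain ⟨s, hs, hP, u, rfl⟩ := hz
    obtain ⟨c, hc⟩ := hm.conj ⟨s, hs⟩
    have e : m * E.xU F2 s u * m⁻¹ = E.xU F2 (π ⟨s, hs⟩).val ((c : F2) * u) := by
      rw [mul_inv_eq_iff_eq_mul]; exact (hc u).1
    rw [e]
    refine ⟨?_, xU_mem_rootGen (P := fun s => k ≤ lev s) (π _).2 (by rw [hπ]; exact hP) _⟩
    by_cases hsr : s = r.val
    · subst hsr
      rw [chi, chi, xU_entry hE (π r).2, xU_entry hE r.2, h1 _ ha, h1 _ ha', h1 _ c.ne_zero, one_mul]
    · rw [chi, chi, xU_entry_ne hE r.2 hs hsr, xU_entry_ne hE (π r).2 (π _).2]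
      intro e'
      exact hsr (congrArg Fin.val (π.injective (Fin.ext e')))
  | one =>
    rw [mul_one, mul_inv_cancel, chi_one, chi_one]
    exact ⟨rfl, one_mem _⟩
  | mul z w hz' hw' hz hw =>
    have e : m * (z * w) * m⁻¹ = (m * z * m⁻¹) * (m * w * m⁻¹) := by group
    rw [e, chi_mul hk a' _ hlev' hz.2 hw.2, hz.1, hw.1, chi_mul hk a _ hlev hz' hw']
    exact ⟨rfl, mul_mem hz.2 hw.2⟩
  | inv z hz' hz =>
    have e : m * z⁻¹ * m⁻¹ = (m * z * m⁻¹)⁻¹ := by group
    rw [e, chi_inv hk a' _ hlev' hz.2, hz.1, chi_inv hk a _ hlev hz']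
    exact ⟨rfl, inv_mem hz.2⟩

theorem lev_refl {j r : ℕ} (hj : j < E.rank) (h3 : j ≠ 3) (hr : r < E.n) : lev (E.refl j r) = lev r := by
  rw [lev, co_refl hE hj hr (by rw [rank_eq]; norm_num), if_neg (Ne.symm h3), sub_zero]
  try rfl

/-- A normal piece of a level that avoids the lowest root is in the next level. -/
theorem step {k kQ : ℤ} (hk : 1 ≤ k) (hk6 : k ≤ 6) (hQ : lev' (low k) < kQ) (hQ0 : 0 ≤ kQ)
    {N : Subgroup GE} (hNU : N ≤ U k) (hNQ : N ≤ shiftSub F2 (gdeg E (lin E cRef)) kQ hQ0)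
    (hconj : ∀ j (hj : j < E.rank), j ≠ 3 → ∀ g ∈ N,
      E.nU F2 (E.simple j) 1 * g * (E.nU F2 (E.simple j) 1)⁻¹ ∈ N) : N ≤ U (k + 1) := by
  suffices key : ∀ (m : ℕ) (r : Fin E.n), (E.ht r.val).toNat ≤ m → lev r.val = k →
      ∀ g ∈ N, ∀ a : Fin E.rank, (E.cv r.val (a : Fin E.rank) : F2) ≠ 0 → chi a r.2 g = 0 by
    intro g hg
    refine mem_next_of_chi hk (hNU hg) fun r hr hlev a => ?_
    by_cases ha : (E.cv r a : F2) = 0
    · have hgen : ∀ g ∈ U k, chi a hr g = 0 := by
        intro g hg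
        induction hg using Subgroup.closure_induction with
        | mem z hz =>
          obtain ⟨s, hs, hP, u, rfl⟩ := hz
          by_cases hsr : s = r
          · subst hsr; rw [chi, xU_entry hE hr, ha, zero_mul]
          · exact xU_entry_ne hE hr hs hsr a u
        | one => exact chi_one a hr
        | mul z w hz' hw' hz hw => rw [chi_mul hk a hr hlev hz' hw', hz, hw, add_zero]
        | inv z hz' hz => rw [chi_inv hk a hr hlev hz', hz, neg_zero]
      exact hgen g (hNU hg)
    · exact key _ ⟨r, hr⟩ le_rfl hlev g hg a ha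
  intro m
  induction m using Nat.strong_induction_on with
  | _ m ih =>
    intro r hm hlev g hg a ha
    by_cases hlow : r.val = low k
    · rw [chi, (hNQ hg).1 _ _ ?_, Matrix.one_apply_ne (by simp)]
      show (0 : ℤ) - lin E cRef (E.neg r.val) < kQ
      have : lin E cRef (E.neg r.val) = -lev' r.val := by
        rw [lev'_eq_lin r.2]
        simp only [lin, ← Finset.sum_neg_distrib]
        exact Finset.sum_congr rfl fun j _ => by rw [co_neg hE r.2 j.2, mul_neg]
      rw [this, hlow]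
      omega
    · have e := allLt_iff.mp chkDesc r.val r.2
      simp only [chkDescAt, decide_eq_true_eq, List.any_eq_true] at e
      obtain ⟨j, hjmem, hjr⟩ := e (by omega) (by rw [hlev]; exact hlow)
      have hj : j < E.rank ∧ j ≠ 3 := by
        rw [rank_eq]
        simp only [List.mem_cons, List.not_mem_nil, or_false] at hjmem
        omega
      let π := E.refP hE ⟨j, hj.1⟩
      have hπ : ∀ s : Fin E.n, lev (π s).val = lev s.val := fun s => by
        rw [refP_apply]; exact lev_refl hj.1 hj.2 s.2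
      have hlev' : lev (π r).val = k := by rw [hπ, hlev]
      obtain ⟨a', ha'⟩ := exists_odd (π r).2
      obtain ⟨h1, -⟩ := chi_conj hk (mono_nU_simple (F := F2) hE ⟨j, hj.1⟩) hπ hlev (hNU hg) ha ha'
      rw [← h1]
      have hp : 0 < E.ht r.val := by
        refine ht_pos hE r.2 (isPos_iff.mpr (half_le_of_co hE r.2 (k := 3) (by rw [rank_eq]; norm_num) ?_))
        show (0 : ℤ) < lev r.val
        omega
      have h2 : E.ht (π r).val < E.ht r.val := hjr.2
      have hlt : (E.ht (π r).val).toNat < m :=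
        lt_of_lt_of_le (Int.toNat_lt_toNat hp |>.mpr h2) hm
      exact ih (E.ht (π r).val).toNat hlt (π r) le_rfl hlev' _ (hconj j hj.1 hj.2 g hg) a' ha'

end CfsgLib.Chevalley.E8Cores
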