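import Cfsg.Agent.Lib.Chevalley.E8Cores.Levels
import Cfsg.Agent.Lib.Chevalley.Data.SuppCerts
import Cfsg.Agent.Lib.Chevalley.Levi
import Cfsg.Agent.Lib.BNPair.Parabolic

/-!
Iterated cores of two adjacent maximal parabolic subgroups of `E₈(2)`: the sixth is the first trivial one.
-/

set_option autoImplicit false

namespace CfsgLib.Chevalley.E8Cores

open Tbl Matrix

/-- The parabolic subgroup of the node. -/
noncomputable def PB : Subgroup GE := E.rootGen F2 (fun r => 0 ≤ lev r)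

/-- Its reflection. -/
noncomputable def PQ : Subgroup GE := E.rootGen F2 (fun r => 0 ≤ lev' r)

theorem PB_eq : PB = U 0 := rfl
theorem PQ_eq : PQ = U' 0 := rfl

/-- The simple group `E₈(2)`. -/
abbrev G8 : Subgroup GE := E.datum.group F2

theorem rootGen_le_G (P : ℕ → Prop) : E.rootGen F2 P ≤ G8 :=
  rootGen_le fun _ hr _ t => xU_mem_group hE hr t

theorem nb_mem : nb ∈ G8 := nU_mem_group hE (simple_lt hE (show 3 < E.rank from b3.2)) _

theorem borel_eq : E.datum.borelSubgroup F2 = E.rootGen F2 (fun r => E.half ≤ r) := by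
  refine le_antisymm (fun g hg => ?_) (rootGen_le fun r hr hp t => pos_le_borel hE hr hp t)
  obtain ⟨u, hu, h, hh, rfl⟩ := (mem_borel_iff hE).mp hg
  obtain ⟨χ, -, rfl⟩ := diag_exists_char hE hh
  rw [dU_eq_one, mul_one, ← posUnipotent_rootGen hE]
  exact hu

theorem lev_nonneg {r : ℕ} (hr : r < E.n) (hp : E.half ≤ r) : 0 ≤ lev r :=
  co_nonneg hE hr (isPos_iff.mpr hp) (by rw [rank_eq]; norm_num)

theorem pos_le_PB : E.rootGen F2 (fun r => E.half ≤ r) ≤ PB := rootGen_mono fun _ hr hp => lev_nonneg hr hp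

theorem nU_mem_PB {j : ℕ} (hj : j < E.rank) (h3 : j ≠ 3) : E.nU F2 (E.simple j) 1 ∈ PB := by
  have hp := simple_lt hE hj
  have h0 : lev (E.simple j) = 0 := by
    rw [lev, co_simple hE hj (by rw [rank_eq]; norm_num), if_neg (Ne.symm h3)]
  have hm : ∀ t, E.xU F2 (E.simple j) t ∈ PB := fun t =>
    xU_mem_rootGen (P := fun r => 0 ≤ lev r) hp h0.ge t
  have hn : ∀ t, E.xU F2 (E.neg (E.simple j)) t ∈ PB := fun t =>
    xU_mem_rootGen (P := fun r => 0 ≤ lev r) (neg_lt' hp) (by rw [lev_neg hp, h0]; norm_num) t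
  exact mul_mem (mul_mem (hm _) (hn _)) (hm _)

theorem nw_mem_PB : ∀ l : List (Fin E.rank), (∀ i ∈ l, i.val ≠ 3) → E.nw F2 l ∈ PB
  | [], _ => one_mem _
  | i :: l, h => by
    have h1 := nw_mem_PB l fun x hx => h x (List.mem_cons_of_mem _ hx)
    exact mul_mem (nU_mem_PB i.2 (h i (List.mem_cons_self ..))) h1

theorem PB_le_normalizer_U {k : ℤ} (hk : 1 ≤ k) : PB ≤ Subgroup.normalizer (U k : Set GE) :=
  rootGen_le fun _ hr h t => xU_normalizes hk hr h t

theorem not_PB_le_PQ : ¬ PB ≤ PQ := by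
  intro h
  have hd := chkTop
  simp only [decide_eq_true_eq] at hd
  obtain ⟨-, hl, hs, hr⟩ := hd
  have h130 : (130 : ℕ) < E.n := by rw [n_eq]; norm_num
  have hl' : lev 130 = 1 := hs ▸ hl
  have hx := conj_U' (k := 0) (h (xU_mem_rootGen (P := fun r => 0 ≤ lev r) h130 (by rw [hl']; norm_num) 1))
  obtain ⟨c, hc⟩ := mono_nb.conj ⟨130, h130⟩
  have e : nb * E.xU F2 130 1 * nb = E.xU F2 (E.neg 130) ((c : F2) * 1) := by
    conv_lhs => arg 2; rw [← nb_inv]
    rw [mul_inv_eq_iff_eq_mul, show nb * E.xU F2 130 1 = _ from (hc 1).1, refP_apply]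
    exact congrArg (fun v => E.xU F2 v _ * nb) hr
  rw [e] at hx
  have hn := neg_lt' (T := E) h130
  obtain ⟨a, ha⟩ := exists_odd hn
  have h1 := (U_le_shift le_rfl hx).1 (Sum.inl a) (Sum.inr ⟨E.neg (E.neg 130), neg_lt' hn⟩)
    (by rw [gdeg_entry hn a, lev_neg h130, hl']; norm_num)
  rw [xU_entry hE hn, Matrix.one_apply_ne (by simp), mul_one] at h1
  exact c.ne_zero ((mul_eq_zero.mp h1).resolve_left ha)

theorem nb_not_mem_PB : nb ∉ PB := fun h => not_PB_le_PQ fun x hx => by
  have := conj_U (k := 0) (mul_mem (mul_mem h hx) h)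
  rw [mul_assoc, mul_assoc, nb_mul_self, mul_one, ← mul_assoc, nb_mul_self, one_mul] at this
  exact this

theorem pw_map (l : List (Fin E.rank)) (s : Fin E.n) {l' : List ℕ} (h : l.map Fin.val = l') :
    ((E.pw hE l s : Fin E.n) : ℕ) = act l' s.val := by rw [pw_val, h]

/-- Each node other than the branch node moves the reflected parabolic. -/
theorem move {j : ℕ} (hj : j < E.rank) (h3 : j ≠ 3) {g b : GE} (hg : ∀ L ∈ PB, L * g * L⁻¹ ∈ PQ)
    (hb : b ∈ E.rootGen F2 (fun r => E.half ≤ r)) (e : E.nU F2 (E.simple j) 1 = g * b) : False := by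
  have hjm : j ∈ [0, 1, 2, 4, 5, 6, 7] := by
    rw [rank_eq] at hj
    simp only [List.mem_cons, List.not_mem_nil, or_false]
    omega
  have hc := List.all_eq_true.mp chkMove j hjm
  rw [Bool.and_eq_true] at hc
  obtain ⟨hmv, hdr⟩ := hc
  simp only [chkDrop', decide_eq_true_eq] at hdr
  obtain ⟨hs0, hdr⟩ := hdr
  have hwd : ∀ i ∈ (moveData j).1, i < E.rank ∧ i ≠ 3 := by
    rw [rank_eq]
    simp only [List.mem_cons, List.not_mem_nil, or_false] at hjm
    rcases hjm with h | h | h | h | h | h | h <;> subst h <;> simp [moveData]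
  let l : List (Fin E.rank) := (moveData j).1.attach.map fun i => ⟨i.1, (hwd i.1 i.2).1⟩
  have hl : l.map Fin.val = (moveData j).1 := by simp [l, Function.comp_def]
  have hl3 : ∀ i ∈ l, i.val ≠ 3 := fun i hi => by
    obtain ⟨x, -, rfl⟩ := List.mem_map.mp hi
    exact (hwd x.1 x.2).2
  have hs : (moveData j).2 < E.n := by rw [n_eq]; exact hs0
  set L := E.nw F2 l with hLdef
  have hL : E.Mono L (E.pw hE l) := mono_nw hE l
  obtain ⟨a, ha, c, hcm, rfl⟩ := exists_factor hE hEC
    (fun r => r < E.n ∧ E.half ≤ r ∧ 0 ≤ lev' (act (moveData j).1 r))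
    (fun r => r < E.n ∧ E.half ≤ r ∧ lev' (act (moveData j).1 r) < 0)
    (fun r hr hp => (le_or_gt 0 (lev' (act (moveData j).1 r))).imp (fun h => ⟨hr, hp, h⟩)
      fun h => ⟨hr, hp, h⟩)
    E.half E.half (by rw [half_eq, n_eq]) le_rfl b hb
  have hLa : L * a * L⁻¹ ∈ PQ := conj_mem_rootGen hE hL
    (fun s hs => by rw [pw_map l s hl]; exact hs.2.2) ha
  have hLc : L * c * L⁻¹ ∈ E.rootGen F2
      (fun v => ∃ r, r < E.n ∧ E.half ≤ r ∧ v = act (moveData j).1 r ∧ lev' v < 0) := conj_mem_rootGen hE hL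
    (fun s hs => ⟨s.val, s.2, hs.2.1, pw_map l s hl, by rw [pw_map l s hl]; exact hs.2.2⟩) hcm
  have hbad : nb * (L * c * L⁻¹) * nb⁻¹ ∈ E.rootGen F2
      (fun v => ∃ r, r < E.n ∧ E.half ≤ r ∧ v = E.refl 3 (act (moveData j).1 r) ∧ lev v < 0) :=
    conj_mem_rootGen hE mono_nb (fun s hs => by
      obtain ⟨r, h1, h2, h4, h5⟩ := hs
      rw [refP_apply]
      exact ⟨r, h1, h2, congrArg (E.refl 3) h4, h5⟩) hLc
  -- the column of the witness is fixed
  have hfix : ∀ x ∈ E.rootGen F2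
      (fun v => ∃ r, r < E.n ∧ E.half ≤ r ∧ v = E.refl 3 (act (moveData j).1 r) ∧ lev v < 0),
      ∀ row, (x : Matrix E.I E.I F2) row (Sum.inr ⟨(moveData j).2, hs⟩) =
        (1 : Matrix E.I E.I F2) row (Sum.inr ⟨(moveData j).2, hs⟩) := by
    let K : Subgroup GE :=
      { carrier := {x | ∀ row, (x : Matrix E.I E.I F2) row (Sum.inr ⟨(moveData j).2, hs⟩) =
          (1 : Matrix E.I E.I F2) row (Sum.inr ⟨(moveData j).2, hs⟩)}
        mul_mem' := fun {x y} hx hy row => by
          rw [Units.val_mul, Matrix.mul_apply, Finset.sum_eq_single (Sum.inr ⟨(moveData j).2, hs⟩)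
            (fun i _ hi => by rw [hy i, Matrix.one_apply_ne hi, mul_zero]) (by simp),
            hy, Matrix.one_apply_eq, mul_one, hx row]
        one_mem' := fun row => by simp
        inv_mem' := fun {x} hx row => by
          have h : ((x⁻¹ * x : GE) : Matrix E.I E.I F2) row (Sum.inr ⟨(moveData j).2, hs⟩) =
              (1 : Matrix E.I E.I F2) row (Sum.inr ⟨(moveData j).2, hs⟩) := by simp
          rw [Units.val_mul, Matrix.mul_apply, Finset.sum_eq_single (Sum.inr ⟨(moveData j).2, hs⟩)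
            (fun i _ hi => by rw [hx i, Matrix.one_apply_ne hi, mul_zero]) (by simp),
            hx, Matrix.one_apply_eq, mul_one] at h
          exact h }
    suffices hle : E.rootGen F2
        (fun v => ∃ r, r < E.n ∧ E.half ≤ r ∧ v = E.refl 3 (act (moveData j).1 r) ∧ lev v < 0) ≤ K from
      fun x hx => hle hx
    refine rootGen_le fun v hv ⟨r, hr, hp, e1, hneg⟩ t row => ?_
    have hm := allLt_iff.mp hmv r (by rw [← n_eq]; exact hr)
    simp only [chkMoveAt, decide_eq_true_eq, ← e1] at hm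
    obtain ⟨hm1, hm2⟩ := hm (by rw [← half_eq]; exact hp) hneg
    rw [xU_val hE hv, X, Finset.sum_range_succ', Matrix.add_apply, Matrix.sum_apply, Finset.sum_eq_zero,
      zero_add]
    · simp [A_zero]
    · intro k _
      simp only [Matrix.smul_apply, castM_apply, smul_eq_mul, A_apply, colA]
      by_cases h1 : (moveData j).2 = v
      · simp [h1]
      · have hnone : ∀ k, E.chain v (moveData j).2 (k + 1) = none := by
          intro k
          induction k with
          | zero => exact hm2.resolve_left h1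
          | succ k ih => exact chain_none_mono ih
        simp [h1, if_neg hm1, hnone k, optVec]
  -- the contradiction
  set w := E.refP hE b3 * (E.pw hE (l ++ ⟨j, hj⟩ :: l.reverse)) * E.refP hE b3 with hw
  have hmono : E.Mono (nb * (L * E.nU F2 (E.simple j) 1 * L⁻¹) * nb) w := by
    rw [hw, pw_append, pw_cons, pw_reverse, ← mul_assoc (E.pw hE l)]
    exact (mono_nb.mul ((hL.mul (mono_nU_simple hE ⟨j, hj⟩)).mul hL.inv)).mul mono_nb
  have hp : nb * (L * g * L⁻¹ * (L * a * L⁻¹)) * nb ∈ PB := conj_U' (mul_mem (hg L (nw_mem_PB l hl3)) hLa)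
  have hdec : nb * (L * E.nU F2 (E.simple j) 1 * L⁻¹) * nb =
      (nb * (L * g * L⁻¹ * (L * a * L⁻¹)) * nb) * (nb * (L * c * L⁻¹) * nb⁻¹) := by
    rw [e, nb_inv]
    calc nb * (L * (g * (a * c)) * L⁻¹) * nb
        = nb * (L * g * L⁻¹ * (L * a * L⁻¹)) * 1 * (L * c * L⁻¹) * nb := by group
      _ = nb * (L * g * L⁻¹ * (L * a * L⁻¹)) * (nb * nb) * (L * c * L⁻¹) * nb := by rw [nb_mul_self]
      _ = _ := by simp only [mul_assoc]
  set s : Fin E.n := ⟨(moveData j).2, hs⟩
  have hws : lev (w s).val < lev s.val := by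
    have e2 : (w s).val = E.refl 3 (act ((moveData j).1 ++ j :: (moveData j).1.reverse)
        (E.refl 3 (moveData j).2)) := by
      rw [hw, Equiv.Perm.mul_apply, Equiv.Perm.mul_apply, refP_apply,
        pw_map _ _ (l' := (moveData j).1 ++ j :: (moveData j).1.reverse) (by simp [List.map_reverse, hl]),
        refP_apply]
      rfl
    rw [e2]
    exact hdr
  have hne := hmono.entry_ne s
  rw [hdec, Units.val_mul, Matrix.mul_apply, Finset.sum_eq_single (Sum.inr s)
    (fun i _ hi => by rw [hfix _ hbad i, Matrix.one_apply_ne hi, mul_zero]) (by simp),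
    hfix _ hbad, Matrix.one_apply_eq, mul_one,
    (U_le_shift le_rfl hp).1 _ _ (by
      show lin E cLev (w s).val - lin E cLev s.val < 0
      rw [← lev_eq_lin, ← lev_eq_lin]; omega),
    Matrix.one_apply_ne (fun h => by
      rw [Sum.inr_injective h] at hws
      exact lt_irrefl _ hws)] at hne
  exact hne rfl

/-- A normal subgroup of the parabolic inside the reflected one is unipotent. -/
theorem unipotent_of_normal {N : Subgroup GE} (hB : N ≤ PB) (hQ : N ≤ PQ)
    (hn : ∀ p ∈ PB, ∀ g ∈ N, p * g * p⁻¹ ∈ N) : N ≤ U 1 := by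
  let P := bnPair hE hEC F2
  have hNG : N ≤ G8 := le_trans hB (rootGen_le_G _)
  have hpos : N ≤ E.rootGen F2 (fun r => E.half ≤ r) := by
    have hBN : P.B ≤ Subgroup.normalizer (N.subgroupOf G8 : Set ↥G8) := by
      intro b hb
      have hb' : (b : GE) ∈ PB := pos_le_PB (borel_eq ▸ Subgroup.mem_subgroupOf.mp hb)
      refine Subgroup.mem_normalizer_iff.mpr fun x => ?_
      simp only [Subgroup.mem_subgroupOf, Subgroup.coe_mul, Subgroup.coe_inv]
      refine ⟨fun hx => hn _ hb' _ hx, fun hx => ?_⟩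
      have := hn _ (inv_mem hb') _ hx
      simpa [mul_assoc] using this
    have hM : P.B ≤ N.subgroupOf G8 ⊔ P.B := le_sup_right
    have heq := BNPair.Parabolic.eq_parabolic P hM
    rcases (P.S ∩ ((N.subgroupOf G8 ⊔ P.B : Subgroup ↥G8) : Set ↥G8)).eq_empty_or_nonempty with h0 | h0
    · rw [h0] at heq
      intro g hg
      have hgM : (⟨g, hNG hg⟩ : ↥G8) ∈ P.parabolic ∅ :=
        heq ▸ Subgroup.mem_sup_left (Subgroup.mem_subgroupOf.mpr hg)
      rw [show P.parabolic ∅ = P.B by simp [Cfsg.BNPair.parabolic]] at hgM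
      rw [← borel_eq]
      exact Subgroup.mem_subgroupOf.mp hgM
    · obtain ⟨x, ⟨i, hi, hx⟩, hxM⟩ := h0
      exfalso
      have hx' := (eq_nMat_simple_iff hE hi _).mp hx
      rw [Subgroup.coe_mul_of_right_le_normalizer_left _ _ hBN] at hxM
      obtain ⟨g, hg, b, hb, e⟩ := hxM
      have e' : (g : GE) * (b : GE) = E.nU F2 (E.simple i) 1 := by rw [← hx', ← e]; rfl
      have hb' : (b : GE) ∈ E.rootGen F2 (fun r => E.half ≤ r) :=
        borel_eq ▸ Subgroup.mem_subgroupOf.mp hb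
      have hg' : (g : GE) ∈ N := Subgroup.mem_subgroupOf.mp hg
      by_cases h3 : i = 3
      · subst h3
        exact nb_not_mem_PB (by rw [nb, ← e']; exact mul_mem (hB hg') (pos_le_PB hb'))
      · exact move hi h3 (fun L hL => hQ (hn L hL _ hg')) hb' e'.symm
  intro g hg
  obtain ⟨a, ha, b, hb, rfl⟩ := exists_factor hE hEC (fun r => 1 ≤ lev r)
    (fun r => r < E.n ∧ E.half ≤ r ∧ lev r = 0)
    (fun r hr hp => by
      rcases eq_or_lt_of_le (lev_nonneg hr hp) with e | e
      · exact Or.inr ⟨hr, hp, e.symm⟩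
      · exact Or.inl (by omega))
    E.half E.half (by rw [half_eq, n_eq]) le_rfl g (hpos hg)
  have hwd : ∀ i ∈ longWord, i < E.rank ∧ i ≠ 3 := by rw [rank_eq]; simp [longWord]
  let l : List (Fin E.rank) := longWord.attach.map fun i => ⟨i.1, (hwd i.1 i.2).1⟩
  have hl : l.map Fin.val = longWord := by simp [l, Function.comp_def]
  have hl3 : ∀ i ∈ l, i.val ≠ 3 := fun i hi => by
    obtain ⟨x, -, rfl⟩ := List.mem_map.mp hi
    exact (hwd x.1 x.2).2
  have hL : E.Mono (E.nw F2 l) (E.pw hE l) := mono_nw hE l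
  have hLP := nw_mem_PB l hl3
  set L := E.nw F2 l
  have hchk : ∀ s : Fin E.n, E.half ≤ s.val → (lev s.val = 0 → act longWord s.val < 120) ∧
      (1 ≤ lev s.val → 1 ≤ lev (act longWord s.val)) := by
    intro s hs
    have h := allLt_iff.mp chkLong s.val (by rw [← n_eq]; exact s.2)
    simp only [chkLongAt, decide_eq_true_eq] at h
    exact h (by rw [← half_eq]; exact hs)
  have hLa : L * a * L⁻¹ ∈ E.rootGen F2 (fun r => E.half ≤ r) := conj_mem_rootGen hE hL (fun s hs => by
    have h1 : E.half ≤ s.val := half_le_of_co hE s.2 (k := 3) (by rw [rank_eq]; norm_num) (by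
      show (0 : ℤ) < lev s.val; omega)
    have h2 := (hchk s h1).2 hs
    rw [pw_map l s hl]
    refine half_le_of_co hE (by rw [← pw_map l s hl]; exact Fin.isLt _) (k := 3)
      (by rw [rank_eq]; norm_num) ?_
    show (0 : ℤ) < lev (act longWord s.val)
    omega) ha
  have hLb : L * b * L⁻¹ ∈ E.rootGen F2 (fun r => r < E.half) := conj_mem_rootGen hE hL (fun s hs => by
    rw [pw_map l s hl, half_eq]
    exact (hchk s hs.2.1).1 hs.2.2) hb
  have hLg := hpos (hn L hLP _ hg)
  have hb1 : L * b * L⁻¹ ∈ E.datum.borelSubgroup F2 ⊓ E.datum.negUnipotent F2 := by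
    refine Subgroup.mem_inf.mpr ⟨?_, by rw [negUnipotent_rootGen hE]; exact hLb⟩
    rw [borel_eq, show L * b * L⁻¹ = (L * a * L⁻¹)⁻¹ * (L * (a * b) * L⁻¹) by group]
    exact mul_mem (inv_mem hLa) hLg
  rw [borel_inf_neg (T := E) (F := F2) hE, Subgroup.mem_bot, mul_inv_eq_one, mul_eq_left] at hb1
  rw [hb1, mul_one]
  exact ha

theorem U'_zero_shift : PQ ≤ shiftSub F2 (gdeg E (lin E cRef)) 0 le_rfl := U'_le_shift le_rfl

/-- Normal subgroups in two adjacent terms go down one level. -/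
theorem descend (i : ℕ) {N : Subgroup GE} (hn : ∀ p ∈ PB, ∀ g ∈ N, p * g * p⁻¹ ∈ N)
    (h0 : i = 0 → N ≤ PB ∧ N ≤ PQ) (h1 : 1 ≤ i → N ≤ U (i + 1) ∧ N ≤ U' (i + 1)) :
    N ≤ U (i + 2) := by
  have hconj : ∀ j (hj : j < E.rank), j ≠ 3 → ∀ g ∈ N,
      E.nU F2 (E.simple j) 1 * g * (E.nU F2 (E.simple j) 1)⁻¹ ∈ N := fun j hj h3 g hg =>
    hn _ (nU_mem_PB hj h3) g hg
  have hlow := List.all_eq_true.mp chkLow
  rcases Nat.eq_zero_or_pos i with hi | hi
  · subst hi
    obtain ⟨hB, hQ⟩ := h0 rfl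
    have h := hlow 1 (by simp)
    simp only [decide_eq_true_eq] at h
    have h2 := step (k := 1) (kQ := 0) le_rfl (by norm_num) (by rw [lev', h.2.2.1 trivial]; norm_num) le_rfl
      (unipotent_of_normal hB hQ hn) (le_trans hQ U'_zero_shift) hconj
    norm_num at h2 ⊢
    exact h2
  · obtain ⟨hU, hU'⟩ := h1 hi
    by_cases h6 : 6 ≤ i
    · refine le_trans (le_trans hU ?_) bot_le
      rw [← U_seven]
      exact U_anti (by omega)
    have hmem : ((i : ℤ) + 1) ∈ [(1 : ℤ), 2, 3, 4, 5, 6] := by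
      simp only [List.mem_cons, List.not_mem_nil, or_false]; omega
    have h := hlow _ hmem
    simp only [decide_eq_true_eq] at h
    have h2 := step (k := (i : ℤ) + 1) (kQ := (i : ℤ) + 1) (by omega) (by omega) (h.2.2.2 (by omega))
      (by omega) hU (le_trans hU' (U'_le_shift (by omega))) hconj
    rwa [show (i : ℤ) + 1 + 1 = i + 2 by ring] at h2

end CfsgLib.Chevalley.E8Cores
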