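import Cfsg.Agent.Lib.Chevalley.E8Cores.Main

/-!
The two sequences of iterated cores in `E₈(2)`.
-/

set_option autoImplicit false
set_option maxRecDepth 4000

namespace CfsgLib.Chevalley.E8Cores

open Tbl Matrix

/-- The largest subgroup of `X` inside `P` that is normal in `P`. -/
noncomputable def core {G : Type*} [Group G] (P X : Subgroup G) : Subgroup G :=
  (X.subgroupOf P).normalCore.map P.subtype

theorem core_le {G : Type*} [Group G] {P X : Subgroup G} : core P X ≤ X := by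
  rintro _ ⟨x, hx, rfl⟩
  exact Subgroup.mem_subgroupOf.mp ((X.subgroupOf P).normalCore_le hx)

theorem core_le_left {G : Type*} [Group G] {P X : Subgroup G} : core P X ≤ P :=
  (Subgroup.map_subtype_le _)

theorem core_normal {G : Type*} [Group G] {P X : Subgroup G} {p g : G} (hp : p ∈ P) (hg : g ∈ core P X) :
    p * g * p⁻¹ ∈ core P X := by
  obtain ⟨x, hx, rfl⟩ := hg
  exact ⟨_, (Subgroup.normalCore_normal (X.subgroupOf P)).conj_mem x hx ⟨p, hp⟩, rfl⟩

theorem le_core {G : Type*} [Group G] {P X Y : Subgroup G} (hP : Y ≤ P) (hX : Y ≤ X)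
    (hn : ∀ p ∈ P, ∀ y ∈ Y, p * y * p⁻¹ ∈ Y) : Y ≤ core P X := by
  have hN : (Y.subgroupOf P).Normal := ⟨fun y hy p => hn p.1 p.2 _ hy⟩
  have h : Y.subgroupOf P ≤ (X.subgroupOf P).normalCore :=
    Subgroup.normal_le_normalCore.mpr fun y hy => hX hy
  intro y hy
  exact ⟨⟨y, hP hy⟩, h (Subgroup.mem_subgroupOf.mpr hy), rfl⟩

/-- The swapping element. -/
noncomputable def sw : ↥G8 := ⟨nb, nb_mem⟩

/-- The first maximal subgroup. -/
noncomputable def M1 : Subgroup ↥G8 := PB.subgroupOf G8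

/-- The second maximal subgroup. -/
noncomputable def M2 : Subgroup ↥G8 := M1.map (MulAut.conj sw).toMonoidHom

theorem mem_M2 {x : ↥G8} : x ∈ M2 ↔ (x : GE) ∈ PQ := by
  constructor
  · rintro ⟨y, hy, rfl⟩
    have := conj_U (k := 0) (Subgroup.mem_subgroupOf.mp hy)
    rw [← PQ_eq] at this
    simpa [MulAut.conj_apply, sw, nb_inv] using this
  · intro hx
    refine ⟨sw * x * sw, Subgroup.mem_subgroupOf.mpr (conj_U' (k := 0) hx), ?_⟩
    refine Subtype.ext ?_
    have h : nb * (nb * (x : GE) * nb) * nb⁻¹ = (x : GE) := by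
      rw [nb_inv, mul_assoc, mul_assoc (nb * (x : GE)), nb_mul_self, mul_one, ← mul_assoc, nb_mul_self, one_mul]
    simpa [MulAut.conj_apply, sw] using h

/-- The two sequences. -/
noncomputable def pair : ℕ → Subgroup ↥G8 × Subgroup ↥G8
  | 0 => (M1, M2)
  | i + 1 => (core M1 ((pair i).1 ⊓ (pair i).2), core M2 ((pair i).1 ⊓ (pair i).2))

/-- Bounds for the terms. -/
def Bnd (i : ℕ) (A B : Subgroup ↥G8) : Prop :=
  (∀ x ∈ A, i = 0 ∧ (x : GE) ∈ PB ∨ 1 ≤ i ∧ (x : GE) ∈ U (i + 1)) ∧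
    ∀ x ∈ B, i = 0 ∧ (x : GE) ∈ PQ ∨ 1 ≤ i ∧ (x : GE) ∈ U' (i + 1)

theorem descend_sub {i : ℕ} {A B : Subgroup ↥G8} (h : Bnd i A B) {N : Subgroup GE}
    (hN : ∀ g ∈ N, (∃ x ∈ A ⊓ B, (x : GE) = g)) (hn : ∀ p ∈ PB, ∀ g ∈ N, p * g * p⁻¹ ∈ N) :
    N ≤ U (i + 2) := by
  refine descend i hn (fun hi => ⟨fun g hg => ?_, fun g hg => ?_⟩) fun hi => ⟨fun g hg => ?_, fun g hg => ?_⟩
  all_goals
    obtain ⟨x, hx, rfl⟩ := hN g hg
    first
      | exact ((h.1 x hx.1).resolve_right (by omega)).2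
      | exact ((h.2 x hx.2).resolve_right (by omega)).2
      | exact ((h.1 x hx.1).resolve_left (by omega)).2
      | exact ((h.2 x hx.2).resolve_left (by omega)).2

theorem bnd_pair : ∀ i, Bnd i (pair i).1 (pair i).2
  | 0 => ⟨fun x hx => Or.inl ⟨rfl, Subgroup.mem_subgroupOf.mp hx⟩,
      fun x hx => Or.inl ⟨rfl, mem_M2.mp hx⟩⟩
  | i + 1 => by
    have ih := bnd_pair i
    have hcast : ((i + 1 : ℕ) : ℤ) + 1 = i + 2 := by push_cast; ring
    constructor
    · intro x hx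
      refine Or.inr ⟨by omega, hcast ▸ ?_⟩
      refine descend_sub ih (N := (core M1 ((pair i).1 ⊓ (pair i).2)).map G8.subtype) ?_ ?_ ⟨x, hx, rfl⟩
      · rintro _ ⟨y, hy, rfl⟩; exact ⟨y, core_le hy, rfl⟩
      · rintro p hp _ ⟨y, hy, rfl⟩
        refine ⟨_, core_normal (p := (⟨p, rootGen_le_G _ hp⟩ : ↥G8)) (Subgroup.mem_subgroupOf.mpr hp) hy, ?_⟩
        simp only [Subgroup.coe_subtype, Subgroup.coe_mul, Subgroup.coe_inv]
    · intro x hx
      refine Or.inr ⟨by omega, hcast ▸ ?_⟩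
      have key : nb * (x : GE) * nb ∈ U (i + 2) := by
        refine descend_sub (A := ((pair i).2.map (MulAut.conj sw).toMonoidHom))
          (B := ((pair i).1.map (MulAut.conj sw).toMonoidHom)) ⟨?_, ?_⟩
          (N := ((core M2 ((pair i).1 ⊓ (pair i).2)).map (MulAut.conj sw).toMonoidHom).map G8.subtype) ?_ ?_
          ⟨sw * x * sw⁻¹, ⟨x, hx, rfl⟩, by simp [sw, nb_inv]⟩
        · rintro _ ⟨y, hy, rfl⟩
          rcases ih.2 y hy with ⟨h0, h⟩ | ⟨h0, h⟩
          · exact Or.inl ⟨h0, by simpa [MulAut.conj_apply, sw, nb_inv, PB_eq] using conj_U' (k := 0) h⟩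
          · exact Or.inr ⟨h0, by simpa [MulAut.conj_apply, sw, nb_inv] using conj_U' h⟩
        · rintro _ ⟨y, hy, rfl⟩
          rcases ih.1 y hy with ⟨h0, h⟩ | ⟨h0, h⟩
          · exact Or.inl ⟨h0, by simpa [MulAut.conj_apply, sw, nb_inv, PQ_eq] using conj_U (k := 0) h⟩
          · exact Or.inr ⟨h0, by simpa [MulAut.conj_apply, sw, nb_inv] using conj_U h⟩
        · rintro _ ⟨_, ⟨y, hy, rfl⟩, rfl⟩
          exact ⟨_, ⟨⟨y, (core_le hy).2, rfl⟩, ⟨y, (core_le hy).1, rfl⟩⟩, rfl⟩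
        · rintro p hp _ ⟨_, ⟨y, hy, rfl⟩, rfl⟩
          let p' : ↥G8 := sw⁻¹ * ⟨p, rootGen_le_G _ hp⟩ * sw
          have hp' : p' ∈ M2 := mem_M2.mpr (by simpa [p', sw, nb_inv, PQ_eq] using conj_U (k := 0) hp)
          refine ⟨_, ⟨p' * y * p'⁻¹, core_normal hp' hy, rfl⟩, ?_⟩
          simp [p', sw, MulAut.conj_apply, mul_assoc, nb_inv]
      have h2 := conj_U key
      rwa [mul_assoc, mul_assoc (nb * (x : GE)), nb_mul_self, mul_one, ← mul_assoc, nb_mul_self, one_mul] at h2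

theorem U_le_pair : ∀ i : ℕ, ((U ((i : ℤ) + 1)).subgroupOf G8 ≤ (pair i).1) ∧
    ((U' ((i : ℤ) + 1)).subgroupOf G8 ≤ (pair i).2)
  | 0 => ⟨fun x hx => Subgroup.mem_subgroupOf.mpr (U_anti (by norm_num) (Subgroup.mem_subgroupOf.mp hx)),
      fun x hx => mem_M2.mpr (rootGen_mono (fun r _ h => by push_cast at h; omega) (Subgroup.mem_subgroupOf.mp hx))⟩
  | i + 1 => by
    obtain ⟨hA, hB⟩ := U_le_pair i
    have hc : ((i + 1 : ℕ) : ℤ) + 1 = i + 2 := by push_cast; ring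
    have hU : U ((i : ℤ) + 2) ≤ U' ((i : ℤ) + 1) :=
      rootGen_mono fun r hr h => by have := lev_drop hr (by omega); omega
    have hU' : U' ((i : ℤ) + 2) ≤ U ((i : ℤ) + 1) := rootGen_mono fun r hr h => by
      have h1 := lev_drop (refl_lt hE (show 3 < E.rank from b3.2) hr) (show (2 : ℤ) ≤ lev' r by omega)
      rw [lev'_refl hr] at h1
      change lev' r - 1 ≤ lev r at h1
      omega
    rw [hc]
    constructor
    · refine le_core (fun x hx => Subgroup.mem_subgroupOf.mpr (U_anti (by omega) (Subgroup.mem_subgroupOf.mp hx)))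
        (le_inf (fun x hx => hA (Subgroup.mem_subgroupOf.mpr (U_anti (by omega) (Subgroup.mem_subgroupOf.mp hx))))
          fun x hx => hB (Subgroup.mem_subgroupOf.mpr (hU (Subgroup.mem_subgroupOf.mp hx)))) fun p hp y hy => ?_
      exact Subgroup.mem_subgroupOf.mpr ((Subgroup.mem_normalizer_iff.mp
        (PB_le_normalizer_U (by omega) (Subgroup.mem_subgroupOf.mp hp)) _).mp (Subgroup.mem_subgroupOf.mp hy))
    · refine le_core (fun x hx => mem_M2.mpr (rootGen_mono (fun r _ h => by omega) (Subgroup.mem_subgroupOf.mp hx)))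
        (le_inf (fun x hx => hA (Subgroup.mem_subgroupOf.mpr (hU' (Subgroup.mem_subgroupOf.mp hx))))
          fun x hx => hB (Subgroup.mem_subgroupOf.mpr (rootGen_mono (fun r _ h => by omega)
            (Subgroup.mem_subgroupOf.mp hx)))) fun p hp y hy => ?_
      have h1 := (Subgroup.mem_normalizer_iff.mp (PB_le_normalizer_U (k := (i : ℤ) + 2) (by omega)
        (conj_U' (k := 0) (mem_M2.mp hp))) _).mp (conj_U' (Subgroup.mem_subgroupOf.mp hy))
      have h2 := conj_U h1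
      refine Subgroup.mem_subgroupOf.mpr ?_
      have e : nb * (nb * (p : GE) * nb * (nb * (y : GE) * nb) * (nb * (p : GE) * nb)⁻¹) * nb =
          (p : GE) * (y : GE) * (p : GE)⁻¹ := by
        simp only [_root_.mul_inv_rev, nb_inv, mul_assoc, nb_mul_self, mul_one]
        simp only [← mul_assoc, nb_mul_self, one_mul]
      rwa [e] at h2

theorem six : (pair 6).1 = ⊥ := by
  rw [eq_bot_iff]
  intro x hx
  obtain ⟨-, h⟩ := ((bnd_pair 6).1 x hx).resolve_left (by norm_num)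
  rw [show ((6 : ℕ) : ℤ) + 1 = 7 by norm_num, U_seven, Subgroup.mem_bot] at h
  exact Subgroup.mem_bot.mpr (Subtype.ext h)

theorem five : (pair 5).1 ≠ ⊥ := by
  intro h
  have hd := chkTop
  simp only [decide_eq_true_eq] at hd
  have h239 : (239 : ℕ) < E.n := by rw [n_eq]; norm_num
  have hx : E.xU F2 239 1 ∈ U (((5 : ℕ) : ℤ) + 1) :=
    xU_mem_rootGen (P := fun r => ((5 : ℕ) : ℤ) + 1 ≤ lev r) h239 (by rw [hd.1]; norm_num) 1
  have hm := (U_le_pair 5).1 (Subgroup.mem_subgroupOf.mpr hx : (⟨_, rootGen_le_G _ hx⟩ : ↥G8) ∈ _)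
  rw [h, Subgroup.mem_bot] at hm
  have e : E.xU F2 239 1 = E.xU F2 239 0 := by rw [xU_zero hE h239]; exact congrArg Subtype.val hm
  exact one_ne_zero (xU_inj hE h239 e)

theorem M1_ne_M2 : M1 ≠ M2 := fun h => not_PB_le_PQ fun x hx => by
  have hm : (⟨x, rootGen_le_G _ hx⟩ : ↥G8) ∈ M1 := Subgroup.mem_subgroupOf.mpr hx
  rw [h] at hm
  exact mem_M2.mp hm

theorem M1_core : M1.normalCore = ⊥ := by
  have key : ∀ i : ℕ, ∀ x ∈ M1.normalCore, x ∈ (pair i).1 ∧ x ∈ (pair i).2 := by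
    have hswap : ∀ x ∈ M1.normalCore, x ∈ M2 := fun x hx =>
      ⟨sw⁻¹ * x * sw, M1.normalCore_le (by simpa using (M1.normalCore_normal).conj_mem x hx sw⁻¹),
        by simp [MulAut.conj_apply, mul_assoc]⟩
    intro i
    induction i with
    | zero => exact fun x hx => ⟨M1.normalCore_le hx, hswap x hx⟩
    | succ i ih =>
      intro x hx
      exact ⟨le_core M1.normalCore_le (le_inf (fun y hy => (ih y hy).1) fun y hy => (ih y hy).2)
          (fun p _ y hy => M1.normalCore_normal.conj_mem y hy p) hx,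
        le_core hswap (le_inf (fun y hy => (ih y hy).1) fun y hy => (ih y hy).2)
          (fun p _ y hy => M1.normalCore_normal.conj_mem y hy p) hx⟩
  rw [eq_bot_iff]
  intro x hx
  have h := (key 6 x hx).1
  rw [six] at h
  exact h

set_option maxHeartbeats 1000000 in
theorem M1_coatom : IsCoatom M1 := by
  refine ⟨fun h => ?_, ?_⟩
  · have hsw : sw ∈ M1 := by rw [h]; exact Subgroup.mem_top sw
    rw [M1, Subgroup.mem_subgroupOf] at hsw
    exact nb_not_mem_PB hsw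
  intro M hM
  let P := bnPair hE hEC F2
  have hB : P.B ≤ M := fun b hb =>
    hM.le (Subgroup.mem_subgroupOf.mpr (pos_le_PB (borel_eq ▸ Subgroup.mem_subgroupOf.mp hb)))
  have hS : ∀ x ∈ P.S, ∀ i < E.rank, i ≠ 3 → (x : GE) = E.nU F2 (E.simple i) 1 → x ∈ M1 := fun x _ i hi h3 e =>
    Subgroup.mem_subgroupOf.mpr (e ▸ nU_mem_PB hi h3)
  have hsw : sw ∈ M := by
    by_contra hsw
    have heq := BNPair.Parabolic.eq_parabolic P hB
    refine not_le_of_gt hM (heq.trans_le (sup_le (fun b hb => Subgroup.mem_subgroupOf.mpr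
      (pos_le_PB (borel_eq ▸ Subgroup.mem_subgroupOf.mp hb))) ((Subgroup.closure_le _).mpr ?_)))
    rintro x ⟨⟨i, hi, hx⟩, hxM⟩
    have hx' := (eq_nMat_simple_iff hE hi _).mp hx
    by_cases h3 : i = 3
    · subst h3
      exact absurd (show sw ∈ M by rwa [show sw = x from Subtype.ext hx'.symm]) hsw
    · exact hS x ⟨i, hi, hx⟩ i hi h3 hx'
  rw [eq_top_iff]
  have hn : ∀ j (hj : j < E.rank),
      (⟨E.nU F2 (E.simple j) 1, nU_mem_group hE (simple_lt hE hj) 1⟩ : ↥G8) ∈ M := fun j hj => by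
    by_cases h3 : j = 3
    · subst h3; exact hsw
    · exact hM.le (Subgroup.mem_subgroupOf.mpr (nU_mem_PB hj h3))
  have hpar : E.datum.parabolicSubgroup F2 Set.univ ≤ M.map G8.subtype := by
    refine sup_le (fun b hb => ?_) ((Subgroup.closure_le _).mpr ?_)
    · exact ⟨⟨b, borel_le_group hE hb⟩, hB (Subgroup.mem_subgroupOf.mpr hb), rfl⟩
    · rintro g ⟨j, -, hj, hg⟩
      exact ⟨_, hn j hj, ((eq_nMat_simple_iff hE hj g).mp hg).symm⟩
  have hall : G8 ≤ M.map G8.subtype := by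
    intro g hg
    have hgen : g ∈ E.rootGen F2 (fun _ => True) := by
      rw [G8, group_eq hE] at hg
      refine (Subgroup.closure_le _).mpr ?_ hg
      rintro _ ⟨r, hr, t, rfl⟩
      exact xU_mem_rootGen hr trivial t
    refine rootGen_le (fun r hr _ t => hpar ?_) hgen
    have hin : E.datum.InRootSub Set.univ r :=
      (supp_inSub hE Data.E8.chkSupp hr).mpr fun i _ h => absurd (Set.mem_univ i) h
    by_cases hp : E.half ≤ r
    · exact (xU_mem_parabolic hE Data.E8.chkSupp _ r hr (isPos_iff.mpr hp) le_rfl hin).1 t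
    · have hp' : E.isPos (E.neg r) = true := by
        rw [isPos_iff]; unfold Tbl.neg Tbl.n at *; omega
      have hin' : E.datum.InRootSub Set.univ (E.neg r) :=
        (supp_inSub hE Data.E8.chkSupp (neg_lt' hr)).mpr fun i _ h => absurd (Set.mem_univ i) h
      have := (xU_mem_parabolic (F := F2) hE Data.E8.chkSupp _ (E.neg r) (neg_lt' hr) hp' le_rfl hin').2 t
      rwa [neg_neg' hr] at this
  intro x _
  obtain ⟨y, hy, e⟩ := hall x.2
  rwa [show x = y from Subtype.ext e.symm]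

/-- The example. -/
theorem exists_example :
    ∃ (G : Type) (_ : Group G) (_ : Finite G) (M₁ M₂ : Subgroup G) (g : G) (A B : ℕ → Subgroup G),
      IsCoatom M₁ ∧ M₂ = M₁.map (MulAut.conj g).toMonoidHom ∧ M₁ ≠ M₂ ∧ M₁.normalCore = ⊥ ∧ A 0 = M₁ ∧ B 0 = M₂ ∧
      (∀ i, A (i + 1) = ((A i ⊓ B i).subgroupOf M₁).normalCore.map M₁.subtype) ∧
      (∀ i, B (i + 1) = ((A i ⊓ B i).subgroupOf M₂).normalCore.map M₂.subtype) ∧ A 6 = ⊥ ∧ A 5 ≠ ⊥ :=
  ⟨↥G8, inferInstance, inferInstance, M1, M2, sw, fun i => (pair i).1, fun i => (pair i).2, M1_coatom, rfl,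
    M1_ne_M2, M1_core, rfl, rfl, fun _ => rfl, fun _ => rfl, six, five⟩

end CfsgLib.Chevalley.E8Cores
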