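import Cfsg.Agent.Lib.Chevalley.Levi

/-!
Matrices that shift a linear grading of the adjoint basis by at least `k`.
-/

set_option autoImplicit false

namespace CfsgLib.Chevalley.E8Cores

open Matrix Tbl

variable {T : Tbl} {F : Type*} [Field F]

/-- The grading of the adjoint basis attached to a function on roots. -/
def gdeg (T : Tbl) (f : ℕ → ℤ) : T.I → ℤ := Sum.elim (fun _ => 0) fun v => f v.val

/-- A linear function of the coordinates of a root. -/
def lin (T : Tbl) (c : ℕ → ℤ) (r : ℕ) : ℤ := ∑ j : Fin T.rank, c j * T.co r j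

/-- All entries moving the grading by less than `k` are those of the identity. -/
def Shift (b : T.I → ℤ) (k : ℤ) (g : GL T.I F) : Prop :=
  ∀ row col, b row - b col < k → (g : Matrix T.I T.I F) row col = (1 : Matrix T.I T.I F) row col

theorem Shift.mul {b : T.I → ℤ} {k : ℤ} (hk : 0 ≤ k) {g h : GL T.I F} (hg : Shift b k g)
    (hh : Shift b k h) : Shift b k (g * h) := by
  intro row col hlt
  rcases eq_or_lt_of_le hk with hk0 | hk1
  · subst hk0
    have hne : row ≠ col := by rintro rfl; omega
    rw [Units.val_mul, Matrix.mul_apply, Matrix.one_apply_ne hne]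
    refine Finset.sum_eq_zero fun x _ => ?_
    by_cases h1 : b x - b col < 0
    · rw [hh x col h1, Matrix.one_apply_ne, mul_zero]
      rintro rfl; omega
    · rw [hg row x (by omega), Matrix.one_apply_ne, zero_mul]
      rintro rfl; omega
  rw [Units.val_mul, Matrix.mul_apply, Finset.sum_eq_single col]
  · rw [hh col col (by omega), Matrix.one_apply_eq, mul_one, hg row col hlt]
  · intro x _ hx
    by_cases h1 : b x - b col < k
    · rw [hh x col h1, Matrix.one_apply_ne hx, mul_zero]
    · rw [hg row x (by omega), Matrix.one_apply_ne, zero_mul]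
      rintro rfl
      exact h1 hlt
  · simp

/-- The subgroup of such matrices with such inverse. -/
def shiftSub (F : Type*) [Field F] (b : T.I → ℤ) (k : ℤ) (hk : 0 ≤ k) : Subgroup (GL T.I F) where
  carrier := {g | Shift b k g ∧ Shift b k g⁻¹}
  mul_mem' := fun h h' => ⟨h.1.mul hk h'.1, by rw [_root_.mul_inv_rev]; exact h'.2.mul hk h.2⟩
  one_mem' := ⟨fun _ _ _ => by simp, fun _ _ _ => by simp⟩
  inv_mem' := fun h => ⟨h.2, by rw [inv_inv]; exact h.1⟩

/-- Entries below twice the shift add up under multiplication. -/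
theorem Shift.mul_entry {b : T.I → ℤ} {k : ℤ} (hk : 1 ≤ k) {g h : GL T.I F} (hg : Shift b k g)
    (hh : Shift b k h) {row col : T.I} (hne : row ≠ col) (hlt : b row - b col < 2 * k) :
    ((g * h : GL T.I F) : Matrix T.I T.I F) row col =
      (g : Matrix T.I T.I F) row col + (h : Matrix T.I T.I F) row col := by
  rw [Units.val_mul, Matrix.mul_apply,
    ← Finset.sum_subset (Finset.subset_univ ({row, col} : Finset T.I))]
  · rw [Finset.sum_pair hne, hg row row (by omega), hh col col (by omega), Matrix.one_apply_eq,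
      Matrix.one_apply_eq, one_mul, mul_one, add_comm]
  · intro x _ hx
    simp only [Finset.mem_insert, Finset.mem_singleton, not_or] at hx
    by_cases h1 : b x - b col < k
    · rw [hh x col h1, Matrix.one_apply_ne hx.2, mul_zero]
    · rw [hg row x (by omega), Matrix.one_apply_ne (Ne.symm hx.1), zero_mul]

variable (hT : T.Valid)
include hT

theorem gdeg_A (c : ℕ → ℤ) {r : ℕ} (hr : r < T.n) (k : ℕ) (row col : T.I)
    (h : T.A r k row col ≠ 0) : gdeg T (lin T c) row = k * lin T c r + gdeg T (lin T c) col :=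
  A_degree hT (f := lin T c)
    (fun a _ b _ u hu => by
      simp only [lin, ← Finset.sum_add_distrib, ← mul_add]
      exact Finset.sum_congr rfl fun j _ => by rw [hu j j.2])
    (fun a ha => by
      simp only [lin, ← Finset.sum_neg_distrib]
      exact Finset.sum_congr rfl fun j _ => by rw [co_neg hT ha j.2, mul_neg])
    hr k row col h

theorem shift_xU (c : ℕ → ℤ) {k : ℤ} (hk : 0 ≤ k) {r : ℕ} (hr : r < T.n) (h : k ≤ lin T c r) (t : F) :
    Shift (gdeg T (lin T c)) k (T.xU F r t) := by
  intro row col hlt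
  rw [xU_val hT hr, X, Finset.sum_range_succ', Matrix.add_apply, Matrix.sum_apply,
    Finset.sum_eq_zero, zero_add]
  · simp [A_zero]
  · intro j _
    simp only [Matrix.smul_apply, castM_apply, smul_eq_mul]
    by_cases hA : T.A r (j + 1) row col = 0
    · simp [hA]
    · have e := gdeg_A hT c hr (j + 1) row col hA
      have : lin T c r ≤ ((j + 1 : ℕ) : ℤ) * lin T c r := by
        push_cast; nlinarith
      omega

theorem rootGen_le_shift (c : ℕ → ℤ) {k : ℤ} (hk : 0 ≤ k) {P : ℕ → Prop}
    (hP : ∀ r < T.n, P r → k ≤ lin T c r) : T.rootGen F P ≤ shiftSub F (gdeg T (lin T c)) k hk := by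
  refine rootGen_le fun r hr h t => ⟨shift_xU hT c hk hr (hP r hr h) t, ?_⟩
  rw [xU_inv hT hr]
  exact shift_xU hT c hk hr (hP r hr h) _

/-- The entry of a root element at the coroot row of the opposite root. -/
theorem xU_entry {r : ℕ} (hr : r < T.n) (a : Fin T.rank) (t : F) :
    (T.xU F r t : Matrix T.I T.I F) (Sum.inl a) (Sum.inr ⟨T.neg r, neg_lt' hr⟩) = (T.cv r a : F) * t := by
  have hne := neg_ne (T := T) hr
  rw [xU_val hT hr, X]
  simp [Finset.sum_range_succ, Matrix.sum_apply, castM_apply, A_apply, colA, hne, coVec, rootVec,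
    mul_comm]

/-- Other root elements vanish there. -/
theorem xU_entry_ne {r s : ℕ} (hr : r < T.n) (hs : s < T.n) (hsr : s ≠ r) (a : Fin T.rank) (t : F) :
    (T.xU F s t : Matrix T.I T.I F) (Sum.inl a) (Sum.inr ⟨T.neg r, neg_lt' hr⟩) = 0 := by
  have hne : ¬ T.neg r = T.neg s := fun e => hsr (by
    rw [← neg_neg' hr, e, neg_neg' hs])
  rw [xU_val hT hs, X]
  have hopt : ∀ o : Option (ℕ × ℤ), T.optVec o (Sum.inl a) = 0 := fun o => by
    cases o <;> simp [optVec, rootVec]
  by_cases h1 : T.neg r = s
  · simp [Finset.sum_range_succ, Matrix.sum_apply, castM_apply, A_apply, colA, h1]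
  · simp [Finset.sum_range_succ, Matrix.sum_apply, castM_apply, A_apply, colA, h1, hne, hopt]

end CfsgLib.Chevalley.E8Cores
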